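import Groth.Agent.CastelBiratLib.Basic
import Groth.Agent.CurveH0Lib.Clifford

/-!
# Castelnuovo's bound on quadrics through a birational image
-/

set_option autoImplicit false
set_option linter.unusedSectionVars false
set_option linter.style.haveILetI false
universe u v

open FunFld
open Groth.Agent.FFLib hiding degHom

noncomputable section

namespace CastelBiratLib

variable {k : Type u} {K : Type v} [Field k] [IsAlgClosed k] [CharZero k] [Field K] [Algebra k K]
  (hK : FunFld.IsFunctionField k K) {C : Divisor k K} (hC : IsCanonical k K C)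

include hK in
/-- Projection from all but finitely many places has no base points. -/
theorem finite_not_bpf {D : Divisor k K} (h2 : 2 ≤ ell D) (hD : Bpf D) (hbir : Birat D) :
    {P : Place k K | ¬ Bpf (D - Finsupp.single P 1)}.Finite := by
  classical
  obtain ⟨S, hS⟩ := hbir
  have hX1 : ∀ R : Place k K, {P : Place k K | ¬ ell (D - Finsupp.single R 1 - Finsupp.single P 1) < ell (D - Finsupp.single R 1)}.Finite :=
    fun R => finite_base hK (by have := step hK D R; omega)
  refine (((S.finite_toSet.union (finite_ram hK h2))).union (S.finite_toSet.biUnion fun R _ => hX1 R)).subset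
    fun P hP => ?_
  by_contra hcon
  simp only [Set.mem_union, Finset.mem_coe, Set.mem_setOf_eq, Set.mem_iUnion, not_or, not_exists, not_not] at hcon
  obtain ⟨⟨hPS, hP2⟩, hP3⟩ := hcon
  refine hP fun R => ?_
  by_cases hR : R ∈ S
  · have := hP3 R hR
    rw [sub_right_comm] at this
    have := step hK (D - Finsupp.single P 1) R
    have := step hK D R
    have := step hK D P
    have := hD R
    have := hD P
    omega
  rcases eq_or_ne R P with rfl | hne
  · have := step hK D R; omega
  · exact hS P R hPS hR (Ne.symm hne)

omit [CharZero k] in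
include hK in
theorem ell_sub_lt_add {A B : Divisor k K} (hA : Bpf A) (hB : Bpf B) (P : Place k K) :
    ell (A + B - Finsupp.single P 1) < ell (A + B) := by
  obtain ⟨a, ha, haP, -⟩ := exists_avoid hK (hA P) (hA P)
  obtain ⟨b, hb, hbP, -⟩ := exists_avoid hK (hB P) (hB P)
  obtain ⟨ha0, hao⟩ := ord_eq_of_notMem ha haP
  obtain ⟨hb0, hbo⟩ := ord_eq_of_notMem hb hbP
  haveI := Groth.Agent.S10976.result k K hK (A + B)
  have hlt : L (A + B - Finsupp.single P 1) < L (A + B) := by
    refine lt_of_le_of_ne (L_mono (sub_single_le _ P)) fun e => ?_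
    have hab := CurveH0Lib.mul_mem_L ha hb
    have := (mem_sub_single_iff hab (mul_ne_zero ha0 hb0)).1 (e ▸ hab)
    rw [ord_mul P ha0 hb0, hao, hbo, Finsupp.add_apply] at this
    omega
  exact Submodule.finrank_lt_finrank_of_lt hlt

include hK hC in
/-- Projecting from general points. -/
theorem exists_projections {D : Divisor k K} (hD : Bpf D) (hbir : Birat D) {r : ℕ} (hl : ell D = r + 1) :
    ∀ j : ℕ, j + 2 ≤ r → j + 1 ≤ genus k K + 1 → ∃ D' : Divisor k K, Bpf D' ∧ Birat D' ∧ ell D' + j = r + 1 ∧
      ell (D + D') + j ≤ ell (2 • D) ∧ ell (D - D') = 1 ∧ (D - D').deg = (j : ℤ) := by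
  intro j
  induction j with
  | zero =>
    intro _ _
    exact ⟨D, hD, hbir, hl, by rw [two_nsmul]; omega, by rw [sub_self, ell_zero hK], by simp [deg_zero]⟩
  | succ j ih =>
    intro hjr hjg
    obtain ⟨D', hD', hbir', hl', hq, hS1, hSd⟩ := ih (by omega) (by omega)
    have h1 : 1 ≤ ell (C - (D - D')) := by
      have hr := riemann_roch hK hC (D - D')
      omega
    haveI := infinite_places hK
    obtain ⟨P, -, hP⟩ := Set.infinite_univ.exists_notMem_finite
      ((finite_not_birat hK (D := D') (by omega) hD' hbir').union (finite_base hK h1))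
    simp only [Set.mem_union, Set.mem_setOf_eq, not_or, not_not] at hP
    obtain ⟨⟨hb1, hb2⟩, hPc⟩ := hP
    refine ⟨D' - Finsupp.single P 1, hb1, hb2, ?_, ?_, ?_, ?_⟩
    · have := hD' P
      have := step hK D' P
      omega
    · have := ell_sub_lt_add hK hD hD' P
      rw [add_sub_assoc] at this
      omega
    · have hr1 := riemann_roch hK hC (D - D')
      have hr2 := riemann_roch hK hC (D - (D' - Finsupp.single P 1))
      have hst := step hK (C - (D - D')) P
      rw [show C - (D - (D' - Finsupp.single P 1)) = C - (D - D') - Finsupp.single P 1 by abel,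
        show D - (D' - Finsupp.single P 1) = (D - D') + Finsupp.single P 1 by abel, deg_add, deg_single, deg_eq_one hK,
        hSd] at hr2
      rw [show D - (D' - Finsupp.single P 1) = (D - D') + Finsupp.single P 1 by abel]
      rw [hSd] at hr1
      omega
    · rw [show D - (D' - Finsupp.single P 1) = (D - D') + Finsupp.single P 1 by abel, deg_add, deg_single, deg_eq_one hK,
        hSd]
      push_cast
      ring

include hK hC in
/-- A birational linear system of dimension `r` has at least `3r` quadrics. -/
theorem three_mul_le_ell_two {D : Divisor k K} (hD : Bpf D) (hbir : Birat D) {r : ℕ} (hl : ell D = r + 1)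
    (hr : 2 ≤ r) (hg : r ≤ genus k K + 1) : 3 * r ≤ ell (2 • D) := by
  obtain ⟨D', hD', hbir', hl', hq, hS1, hSd⟩ := exists_projections hK hC hD hbir hl (r - 2) (by omega) (by omega)
  have h1 : 1 ≤ ell (C - (D - D')) := by
    have hr := riemann_roch hK hC (D - D')
    omega
  haveI := infinite_places hK
  obtain ⟨P, -, hP⟩ := Set.infinite_univ.exists_notMem_finite
    ((finite_not_bpf hK (D := D') (by omega) hD' hbir').union (finite_base hK h1))
  simp only [Set.mem_union, Set.mem_setOf_eq, not_or, not_not] at hP
  obtain ⟨hb1, hPc⟩ := hP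
  have hlB : ell (D' - Finsupp.single P 1) = 2 := by
    have := hD' P
    have := step hK D' P
    omega
  have htr := CurveH0Lib.Nine.pencil_trick hK (D := D' - Finsupp.single P 1) (H := D) (by omega) hb1 hlB
  have hadd := ell_sub_lt_add hK hD hD' P
  rw [add_sub_assoc, add_comm D (D' - Finsupp.single P 1)] at hadd
  have hr1 := riemann_roch hK hC (D - D')
  have hr2 := riemann_roch hK hC (D - (D' - Finsupp.single P 1))
  rw [show C - (D - (D' - Finsupp.single P 1)) = C - (D - D') - Finsupp.single P 1 by abel,
    show D - (D' - Finsupp.single P 1) = (D - D') + Finsupp.single P 1 by abel, deg_add, deg_single, deg_eq_one hK,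
    hSd] at hr2
  rw [show D - (D' - Finsupp.single P 1) = (D - D') + Finsupp.single P 1 by abel] at htr
  rw [hSd] at hr1
  omega

end CastelBiratLib

end
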