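import Groth.Agent.CastelBiratLib.Bound
import Groth.Agent.CurveCoverLib.Basic
import Groth.Agent.ProjDegLib.Criterion
import Groth.Agent.LinSerMapLib.Basic
import Groth.Agent.CubeConsLib.IsoCls

/-!
# Birational maps to projective space give birational linear systems
-/

set_option autoImplicit false
set_option linter.style.haveILetI false
set_option linter.unusedSectionVars false
universe u

open CategoryTheory CategoryTheory.Limits AlgebraicGeometry TopologicalSpace Opposite
open FunFld CurveDualLib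
open AmpleLib (GenAt)

noncomputable section

namespace CastelBiratLib

attribute [local instance] algFF

variable {k : Type u} [Field k] [IsAlgClosed k] {X : Scheme.{u}} [X.Over (Spec (CommRingCat.of k))] [IsIntegral X]
  [IsProper (X ↘ Spec (CommRingCat.of k))] [Smooth (X ↘ Spec (CommRingCat.of k))]
  (hdim : topologicalKrullDim X = 1) (hreg : ∀ x : X, IsRegularLocalRing (X.presheaf.stalk x))

include hdim in
/-- Sections of a twist by one point. -/
theorem finrank_h0_one_point {L : X.Modules} {D : Divisor k X.functionField}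
    (hD : ZetaCurveLib.HasDiv (k := k) hdim L D) {P : X} (hP : IsClosed ({P} : Set X)) :
    Module.finrank k (Coh.HH X (CohB1.tensorMod L (ClSub.idealMod (GenusZeroLib.ptIdeal hP))) 0) =
      ell (D - Finsupp.single (ptPlace (k := k) hdim hP) 1) := by
  obtain ⟨hi, σ, hσ, h⟩ := hD.tensor hdim (CurveH0Lib.hasDiv_ptIdeal hdim hP)
  rw [sub_eq_add_neg]
  exact finrank_h0_eq_ell hdim hi hσ h

include hdim hreg in
/-- A map to projective space that is injective off finitely many points gives a birational linear system. -/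
theorem exists_birat_div {r : ℕ} (g : X ⟶ CohB1.ProjSpace r k)
    (hg : g ≫ CohB1.ProjSpace.toSpec r k = X ↘ Spec (CommRingCat.of k))
    (V : X.Opens) (hV : (V : Set X).Nonempty) (hinj : Set.InjOn g V) :
    ∃ E : Divisor k X.functionField,
      ZetaCurveLib.HasDiv (k := k) hdim ((Scheme.Modules.pullback g).obj (Twist.twistProjSpace r k 1)) E ∧
        Bpf E ∧ Birat E := by
  classical
  haveI := CurvLib.isNoetherian k (X := X)
  set M := (Scheme.Modules.pullback g).obj (Twist.twistProjSpace r k 1) with hMdef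
  have hM : PicF.IsInvertible M := TwistLib.coord_isInvertible r k g
  have h0 := RRVanLib.finrank_h0_structure (k := k) (X := X)
  obtain ⟨E, hE⟩ := ZetaCurveLib.exists_hasDiv (k := k) hdim hM
  have hn : ∀ x : X, IsIntegrallyClosed (X.presheaf.stalk x) := fun x =>
    haveI := hreg x
    NormalLib.isIntegrallyClosed_of_isRegularLocalRing _
  have hdata : ∀ (P : X) (hP : IsClosed ({P} : Set X)),
      Module.finrank k (Coh.HH X (CohB1.tensorMod M (ClSub.idealMod (GenusZeroLib.ptIdeal hP))) 0) + 1 =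
        Module.finrank k (Coh.HH X M 0) := fun P hP => by
    obtain ⟨_, hrP⟩ := GenusZeroLib.closed_point_data (k := k) hdim hP (hn P)
    obtain ⟨a, ha⟩ := TwistLib.exists_genAt_coord r k g P
    exact (GenusZeroLib.finrank_h0_tensor_ptIdeal (k := k) hP hdim hrP hM).1 ⟨_, ha⟩
  refine ⟨E, hE, fun P => ?_, ?_⟩
  · obtain ⟨x, hx, rfl⟩ := exists_point (k := k) hdim P
    have := hdata x hx
    rw [finrank_h0_one_point hdim hE hx, CurveH0Lib.LinStable.h0_eq_ell hdim hE] at this
    omega
  obtain ⟨hfin, hclosed⟩ := SerreVanLib.proper_closed_finite k hdim V.2.isClosed_compl fun h => by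
    obtain ⟨v, hv⟩ := hV
    exact (h.ge (Set.mem_univ v)) hv
  let S : Finset (Place k X.functionField) :=
    hfin.toFinset.attach.image fun x => ptPlace (k := k) hdim (hclosed x.1 (hfin.mem_toFinset.1 x.2))
  refine ⟨S, fun p q hp hq hpq => ?_⟩
  obtain ⟨P, hP, rfl⟩ := exists_point (k := k) hdim p
  obtain ⟨Q, hQ, rfl⟩ := exists_point (k := k) hdim q
  have hne : Q ≠ P := fun h => hpq (by subst h; rfl)
  have hmem : ∀ (R : X) (hR : IsClosed ({R} : Set X)), ptPlace (k := k) hdim hR ∉ S → R ∈ V := fun R hR h => by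
    by_contra hRV
    exact h (Finset.mem_image.2 ⟨⟨R, hfin.mem_toFinset.2 hRV⟩, Finset.mem_attach _ _, rfl⟩)
  have hPV := hmem P hP hp
  have hQV := hmem Q hQ hq
  haveI : IsProper (g ≫ CohB1.ProjSpace.toSpec r k) := by rw [hg]; infer_instance
  haveI := ProjDegLib.toSpec_isProper k r
  haveI : IsProper g := IsProper.of_comp g (CohB1.ProjSpace.toSpec r k)
  have hcl : ∀ x : X, IsClosed ({x} : Set X) → IsClosed ({g x} : Set (CohB1.ProjSpace r k)) := fun x hx =>
    Set.image_singleton (f := g) (a := x) ▸ g.isClosedMap _ hx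
  obtain ⟨c, hcP, hcQ⟩ := ProjDegLib.exists_separating r k (hcl P hP) (hcl Q hQ) fun e => hne (hinj hQV hPV e.symm)
  let τ : Γ(M, ⊤) := ProjDegLib.psec k (X ↘ Spec (CommRingCat.of k)) r g c
  have hτP : ¬ GenAt M τ (show P ∈ (⊤ : X.Opens) from trivial) :=
    (CurveH0Lib.xvan_iff_not_genAt g c P).1 ((ProjDegLib.xvan_iff k r hg c P).2 hcP)
  have hτQ : GenAt M τ (show Q ∈ (⊤ : X.Opens) from trivial) := by
    by_contra h
    exact hcQ ((ProjDegLib.xvan_iff k r hg c Q).1 ((CurveH0Lib.xvan_iff_not_genAt g c Q).2 h))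
  obtain ⟨_, hrQ⟩ := GenusZeroLib.closed_point_data (k := k) hdim hQ (hn Q)
  obtain ⟨_, -⟩ := GenusZeroLib.closed_point_data (k := k) hdim hP (hn P)
  obtain ⟨L₁, q, hL₁, hq, hd, hrange⟩ := GenusZeroLib.exists_twist_down (k := k) hdim hP hM
  obtain ⟨e⟩ := CurveH0Lib.nonempty_iso_twist_down (k := k) hdim hP hL₁ hM q hq hd hrange
  obtain ⟨t, ht⟩ := (hrange ⊤ τ).2 fun _ => hτP
  have hQP : Q ≠ P → ∃ W : X.Opens, Q ∈ W ∧ P ∉ W := fun hne => ⟨⟨_, hP.isOpen_compl⟩, hne, fun h => h rfl⟩
  have hgen : GenAt L₁ t (show Q ∈ (⊤ : X.Opens) from trivial) :=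
    (CurveH0Lib.genAt_twist_down_iff hL₁ hM q hrange hQP t).2 (ht.symm ▸ ⟨fun _ => hτQ, fun h => absurd h hne⟩)
  have h2 := (GenusZeroLib.finrank_h0_tensor_ptIdeal (k := k) hQ hdim hrQ hL₁).1 ⟨t, hgen⟩
  have hE₁ : ZetaCurveLib.HasDiv (k := k) hdim L₁ (E - Finsupp.single (ptPlace (k := k) hdim hP) 1) := by
    rw [sub_eq_add_neg]
    exact (hE.tensor hdim (CurveH0Lib.hasDiv_ptIdeal hdim hP)).of_iso hdim e hL₁
  rw [finrank_h0_one_point hdim hE₁ hQ, CurveH0Lib.LinStable.h0_eq_ell hdim hE₁] at h2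
  omega

include hdim in
/-- An invertible subsheaf differs by an effective class. -/
theorem ell_sub_pos_of_mono {L M : X.Modules} (hL : PicF.IsInvertible L) (hM : PicF.IsInvertible M) (ι : M ⟶ L) [Mono ι]
    {D E : Divisor k X.functionField} (hD : ZetaCurveLib.HasDiv (k := k) hdim L D)
    (hE : ZetaCurveLib.HasDiv (k := k) hdim M E) : 1 ≤ ell (D - E) := by
  haveI := CurvLib.isNoetherian k (X := X)
  have h0 := RRVanLib.finrank_h0_structure (k := k) (X := X)
  obtain ⟨eM⟩ := MiscFlat6.nonempty_dualIso hM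
  let B := MiscFlat6.dual M
  have hB : PicF.IsInvertible B := MiscFlat6.dual_isInvertible hM
  have hN := HilbPolyLib.isInvertible_tensor hB hL
  obtain ⟨F, hF⟩ := ZetaCurveLib.exists_hasDiv (k := k) hdim hN
  -- the degree-zero twist has a section
  have hS : (ShortComplex.mk ι (cokernel.π ι) (cokernel.condition ι)).ShortExact :=
    { exact := ShortComplex.exact_of_g_is_cokernel _ (cokernelIsCokernel ι) }
  have hm : Mono ((CurvLib.tensorLeft' B).map ι) := (HilbPolyLib.shortExact_tensor hB hS).mono_f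
  have h1 : CubeConsLib.cl M * CubeConsLib.cl B = 1 := CubeConsLib.cl_eq_one_iff.2 ⟨eM⟩
  obtain ⟨eBM⟩ := CubeConsLib.cl_eq_iff.1 (show CubeConsLib.cl (CohB1.tensorMod B M) =
      CubeConsLib.cl (Coh.structureModule X) by
    rw [CubeConsLib.cl_tensor, mul_comm, h1]
    exact (CubeConsLib.cl_eq_one_iff.2 ⟨Iso.refl _⟩).symm)
  let f : Coh.structureModule X ⟶ CohB1.tensorMod B L := eBM.inv ≫ (CurvLib.tensorLeft' B).map ι
  haveI hfm : Mono f := @mono_comp _ _ _ _ _ _ inferInstance _ hm
  have hf : f ≠ 0 := fun h => by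
    haveI : Mono (0 : Coh.structureModule X ⟶ CohB1.tensorMod B L) := h ▸ (inferInstance : Mono f)
    have h1 := Limits.IsZero.of_mono_zero (Coh.structureModule X) (CohB1.tensorMod B L)
    have h2 := CurveVBLib.genRank_of_isZero h1
    rw [CurveVBLib.genRank_eq (CurvLib.locFree_of_isInvertible CurvLib.isInvertible_structureModule)] at h2
    exact one_ne_zero h2
  letI := GenusZeroLib.kmod k (CohB1.tensorMod B L)
  haveI := CurvLib.finite_HH (k := k) (CurvLib.isCoh_of_isInvertible hN) 0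
  have hpos : 1 ≤ Module.finrank k (Coh.HH X (CohB1.tensorMod B L) 0) := by
    have hnz : f.app ⊤ (1 : Γ(X, ⊤)) ≠ 0 := fun h => hf (by
      rw [LinSerMapLib.eq_unitHom f, h]
      apply Scheme.Modules.hom_ext
      intro V
      refine ConcreteCategory.hom_ext _ _ fun (t : Γ(X, V)) => ?_
      refine (QCohLib.unitHom_app _ _ V t).trans ?_
      exact (congrArg (t • ·) (map_zero _)).trans (smul_zero _))
    haveI : Nontrivial Γ(CohB1.tensorMod B L, ⊤) := ⟨⟨_, _, hnz⟩⟩
    rw [(GenusZeroLib.e0k k (CohB1.tensorMod B L)).finrank_eq]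
    haveI : Module.Finite k Γ(CohB1.tensorMod B L, ⊤) :=
      Module.Finite.equiv (GenusZeroLib.e0k k (CohB1.tensorMod B L))
    exact Module.finrank_pos
  obtain ⟨eMN⟩ := CubeConsLib.cl_eq_iff.1 (show CubeConsLib.cl (CohB1.tensorMod M (CohB1.tensorMod B L)) =
      CubeConsLib.cl L by
    rw [CubeConsLib.cl_tensor, CubeConsLib.cl_tensor, ← mul_assoc, h1, _root_.one_mul])
  obtain ⟨z, hz, hDz⟩ := ((hE.tensor hdim hF).of_iso hdim eMN hL).unique hdim h0 hD
  rw [CurveH0Lib.LinStable.h0_eq_ell hdim hF] at hpos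
  rwa [show D - E = F + FunFld.div k z by rw [hDz]; abel,
    Groth.Agent.FFLib.ell_add_div (CurveDualLib.isFunctionField (k := k) (X := X) hdim).1 _ hz]

end CastelBiratLib

end
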